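import Cfsg.Agent.AltEight29.Central
import Cfsg.Agent.AltEight29.FinishTables
import Cfsg.Agent.S3331
import Cfsg.Agent.SL2.Basic

/-!
The centraliser of a fixed-point-free involution lies in the embedded alternating group, and
therefore the embedded alternating group is the whole group.
-/

set_option autoImplicit false

open Equiv Subgroup

namespace CfsgLib.AltEight29

/-- The cycle type of an involution with given support. -/
theorem cycleType_invol {σ : Perm (Fin 8)} (h : σ * σ = 1) (h1 : σ ≠ 1) :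
    σ.cycleType = Multiset.replicate (σ.support.card / 2) 2 := by
  have ho : orderOf σ = 2 := orderOf_eq_prime (by rw [pow_two, h]) h1
  obtain ⟨n, hn⟩ := Perm.cycleType_prime_order (σ := σ) (by rw [ho]; exact Nat.prime_two)
  rw [ho] at hn
  have hs := σ.sum_cycleType
  rw [hn, Multiset.sum_replicate, smul_eq_mul] at hs
  rw [← hs, Nat.mul_div_cancel _ two_pos]
  exact hn

/-- Every involution is conjugate to one of the two standard ones. -/
theorem invol_class (σ : alternatingGroup (Fin 8)) (h : σ * σ = 1) (h1 : σ ≠ 1) :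
    ∃ k : alternatingGroup (Fin 8), k * σ * k⁻¹ = ev ∨ k * σ * k⁻¹ = sv := by
  have h' : σ.1 * σ.1 = 1 := congrArg Subtype.val h
  have h1' : σ.1 ≠ 1 := fun e => h1 (Subtype.ext e)
  have hct := cycleType_invol h' h1'
  have hsum : σ.1.cycleType.sum ≤ 8 := by
    have := σ.1.sum_cycleType_le; rwa [Fintype.card_fin] at this
  have hsign := Perm.sign_of_cycleType σ.1
  rw [σ.2] at hsign
  set n := σ.1.support.card / 2 with hn
  rw [hct, Multiset.sum_replicate, Multiset.card_replicate] at hsign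
  rw [hct, Multiset.sum_replicate] at hsum
  simp only [smul_eq_mul] at hsign hsum
  have hn0 : n ≠ 0 := fun e => h1' (Perm.cycleType_eq_zero.1 (by rw [hct, e]; rfl))
  have key : ∀ (τ : alternatingGroup (Fin 8)), τ * τ = 1 → τ ≠ 1 → τ.1.support.card / 2 = n →
      swap 0 1 * τ.1 = τ.1 * swap 0 1 → ∃ k, k * σ * k⁻¹ = τ := by
    intro τ ht ht1 hts hc
    have hτct := cycleType_invol (σ := τ.1) (congrArg Subtype.val ht) (fun e => ht1 (Subtype.ext e))
    obtain ⟨c, hc'⟩ := isConj_iff.1 (Perm.isConj_iff_cycleType_eq.2 (hct.trans (by rw [hτct, hts])))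
    rcases Int.units_eq_one_or (Perm.sign c) with e | e
    · exact ⟨⟨c, e⟩, Subtype.ext hc'⟩
    · refine ⟨⟨swap 0 1 * c, by
        rw [Perm.mem_alternatingGroup, map_mul, e, odd_comm.1]; rfl⟩, Subtype.ext ?_⟩
      change swap 0 1 * c * σ.1 * (swap 0 1 * c)⁻¹ = τ.1
      rw [mul_inv_rev, show swap 0 1 * c * σ.1 * (c⁻¹ * (swap (0 : Fin 8) 1)⁻¹) =
        swap 0 1 * (c * σ.1 * c⁻¹) * (swap 0 1)⁻¹ by group, hc', hc, mul_inv_cancel_right]
  rcases (by omega : n = 1 ∨ n = 2 ∨ n = 3 ∨ n = 4) with e | e | e | e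
  · rw [e] at hsign; exact absurd hsign (by decide)
  · obtain ⟨k, hk⟩ := key ev ev_sq ev_ne (by rw [sv_support.2, e]) odd_comm.2.2
    exact ⟨k, Or.inl hk⟩
  · rw [e] at hsign; exact absurd hsign (by decide)
  · obtain ⟨k, hk⟩ := key sv sv_sq sv_ne (by rw [sv_support.1, e]) odd_comm.2.1
    exact ⟨k, Or.inr hk⟩

theorem card_alt_eight : Nat.card (alternatingGroup (Fin 8)) = 2 ^ 6 * 315 := by
  rw [nat_card_alternatingGroup, Nat.card_eq_fintype_card, Fintype.card_fin]; rfl

/-- The centraliser of a fixed-point-free involution has order `192`. -/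
theorem card_cent_sv : Nat.card (centralizer ({sv} : Set (alternatingGroup (Fin 8)))) = 192 := by
  set C := centralizer ({sv.1} : Set (Perm (Fin 8))) with hC
  have hC384 : Nat.card C = 384 := by
    rw [hC, Perm.nat_card_centralizer,
      cycleType_invol (σ := sv.1) (congrArg Subtype.val sv_sq) (fun e => sv_ne (Subtype.ext e)),
      sv_support.1]
    decide
  have heq : centralizer ({sv} : Set (alternatingGroup (Fin 8))) =
      C.subgroupOf (alternatingGroup (Fin 8)) := by
    ext x
    rw [mem_subgroupOf, mem_centralizer_singleton_iff, hC, mem_centralizer_singleton_iff]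
    exact Subtype.ext_iff
  have e : Nat.card (C.subgroupOf (alternatingGroup (Fin 8))) =
      Nat.card ((alternatingGroup (Fin 8)).subgroupOf C) :=
    Nat.card_congr
      { toFun := fun x => ⟨⟨x.1.1, x.2⟩, x.1.2⟩
        invFun := fun x => ⟨⟨x.1.1, x.2⟩, x.1.2⟩
        left_inv := fun _ => rfl
        right_inv := fun _ => rfl }
  have hidx : ((alternatingGroup (Fin 8)).subgroupOf C).index = 2 := by
    have hdvd : ((alternatingGroup (Fin 8)).subgroupOf C).index ∣ 2 := by
      have h := Subgroup.relIndex_dvd_index_of_normal (alternatingGroup (Fin 8)) C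
      rwa [alternatingGroup.index_eq_two] at h
    refine ((Nat.dvd_prime Nat.prime_two).1 hdvd).resolve_left fun h1 => ?_
    have hm : (⟨swap 0 1, mem_centralizer_singleton_iff.2 odd_comm.2.1⟩ : C) ∈
        (alternatingGroup (Fin 8)).subgroupOf C := by
      rw [Subgroup.index_eq_one.1 h1]; exact mem_top _
    rw [mem_subgroupOf, Perm.mem_alternatingGroup] at hm
    change Perm.sign (swap (0 : Fin 8) 1) = 1 at hm
    rw [odd_comm.1] at hm
    exact absurd hm (by decide)
  have := Subgroup.card_mul_index ((alternatingGroup (Fin 8)).subgroupOf C)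
  rw [hidx, hC384] at this
  rw [heq, e]
  omega

namespace Embedded

variable {G : Type*} [Group G] [Finite G] (X : Embedded G)

theorem mem_range_of_ev {g : G} (h : g * X.Φ ev = X.Φ ev * g) : g ∈ X.Φ.range :=
  let ⟨σ, _, hσ⟩ := X.centralizer_ev g h
  ⟨σ, hσ.symm⟩

/-- The embedded group contains every element conjugating `ev` into it. -/
theorem ev_closed {g : G} (h : g * X.Φ ev * g⁻¹ ∈ X.Φ.range) : g ∈ X.Φ.range := by
  obtain ⟨σ, hσ⟩ := h
  have hσ2 : σ * σ = 1 := X.inj (by
    rw [map_mul, hσ, map_one, conj_mul, X.map_sq ev_sq, mul_one, mul_inv_cancel])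
  have hσ1 : σ ≠ 1 := fun e => ev_ne (X.inj (by
    rw [e, map_one] at hσ; rw [map_one]; exact conj_eq_one_iff.1 hσ.symm))
  obtain ⟨k, hk | hk⟩ := invol_class σ hσ2 hσ1
  · have hkg : X.Φ k * g ∈ X.Φ.range := by
      apply X.mem_range_of_ev
      rw [← mul_inv_eq_iff_eq_mul]
      calc X.Φ k * g * X.Φ ev * (X.Φ k * g)⁻¹ = X.Φ k * (g * X.Φ ev * g⁻¹) * (X.Φ k)⁻¹ := by group
        _ = X.Φ ev := by rw [← hσ, ← map_inv, ← map_mul, ← map_mul, hk]
    have := mul_mem (inv_mem (MonoidHom.mem_range.2 ⟨k, rfl⟩ : X.Φ k ∈ X.Φ.range)) hkg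
    rwa [inv_mul_cancel_left] at this
  · exfalso
    apply X.sv_not_conj_ev (X.Φ k * g)
    rw [← hk, map_mul, map_mul, map_inv, hσ]; group

include X in
/-- A Sylow two-subgroup has order `64`. -/
theorem not128 : ¬ 128 ∣ Nat.card G := by
  intro h128
  have : Fact (Nat.Prime 2) := ⟨Nat.prime_two⟩
  obtain ⟨S, hS⟩ := (IsPGroup.of_card (n := 1) (by
    rw [Nat.card_zpowers, orderOf_eq_prime (by rw [pow_two]; exact ev_sq) ev_ne, pow_one]) :
    IsPGroup 2 (zpowers ev)).exists_le_sylow
  have hScard : Nat.card (S : Subgroup (alternatingGroup (Fin 8))) = 2 ^ 6 := by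
    obtain ⟨k, hk⟩ := S.2.exists_card_eq
    have h1 : 2 ^ k ∣ 2 ^ 6 * 315 := hk ▸ card_alt_eight ▸ Subgroup.card_subgroup_dvd_card _
    have h2 : 2 ^ 6 ∣ 2 ^ k := hk ▸ S.pow_dvd_card_of_pow_dvd_card
      (by rw [card_alt_eight]; exact dvd_mul_right _ _)
    have h3 : 2 ^ k ∣ 2 ^ 6 := (Nat.Coprime.pow_left k (by norm_num : Nat.Coprime 2 315)).dvd_of_dvd_mul_right h1
    exact hk.trans (Nat.dvd_antisymm h3 h2)
  set S' := (S : Subgroup (alternatingGroup (Fin 8))).map X.Φ with hS'
  have hS'card : Nat.card S' = 2 ^ 6 := by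
    rw [hS', ← Nat.card_congr (equivMapOfInjective _ X.Φ X.inj).toEquiv, hScard]
  obtain ⟨T, hT⟩ := (IsPGroup.of_card hS'card).exists_le_sylow
  have h7 := T.pow_dvd_card_of_pow_dvd_card (n := 7) (by exact_mod_cast h128)
  have hlt : S'.subgroupOf (T : Subgroup G) < ⊤ := by
    rw [lt_top_iff_ne_top, Ne, Subgroup.subgroupOf_eq_top]
    intro hle
    have := Nat.le_of_dvd (Nat.card_pos) (h7.trans (Subgroup.card_dvd_of_le hle))
    rw [hS'card] at this
    norm_num at this
  have : Group.IsNilpotent (T : Subgroup G) := T.2.isNilpotent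
  obtain ⟨⟨t, htT⟩, ht, htS⟩ := SetLike.exists_of_lt
    ((Group.normalizerCondition_of_isNilpotent (G := (T : Subgroup G))) _ hlt)
  apply htS
  rw [mem_subgroupOf]
  have hE : X.Φ ev ∈ S' := ⟨ev, hS (mem_zpowers ev), rfl⟩
  have hm : t * X.Φ ev * t⁻¹ ∈ S' :=
    (mem_normalizer_iff.1 ht ⟨X.Φ ev, hT hE⟩).1 hE
  obtain ⟨σ, hσ⟩ := X.ev_closed (Subgroup.map_le_range _ _ hm)
  -- `t` lies in the Sylow subgroup of the embedded group
  have hTc : IsPGroup 2 ((T : Subgroup G).comap X.Φ) := T.2.comap_of_injective X.Φ X.inj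
  have hle : (S : Subgroup (alternatingGroup (Fin 8))) ≤ (T : Subgroup G).comap X.Φ :=
    fun a ha => hT ⟨a, ha, rfl⟩
  have heq := S.3 hTc hle
  have hσS : σ ∈ (T : Subgroup G).comap X.Φ := by
    rw [mem_comap, hσ]; exact htT
  rw [heq] at hσS
  exact ⟨σ, hσS, hσ⟩

/-- An odd subgroup centralising `sv` normalised by `ev` and `cv` is trivial. -/
theorem odd_trivial (W : Subgroup G) (hW : Odd (Nat.card W))
    (hWs : ∀ y ∈ W, y * X.Φ sv = X.Φ sv * y)
    (hWe : X.Φ ev ∈ normalizer (W : Set G)) (hWc : X.Φ cv ∈ normalizer (W : Set G)) : W = ⊥ := by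
  set E := X.Φ ev with hEdef
  set C := X.Φ cv with hCdef
  have hE2 : E * E = 1 := X.map_sq ev_sq
  have hC2 : C * C = 1 := X.map_sq cv_basic.1
  have hCE : Commute C E := X.map_comm cv_basic.2.1
  set A := closure ({E, C} : Set G) with hA
  have hAm : ∀ a ∈ A, a = 1 ∨ a = E ∨ a = C ∨ a = E * C := by
    intro a ha
    induction ha using Subgroup.closure_induction with
    | mem y hy =>
      rcases hy with rfl | rfl
      · exact Or.inr (Or.inl rfl)
      · exact Or.inr (Or.inr (Or.inl rfl))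
    | one => exact Or.inl rfl
    | mul y y' _ _ h h' =>
      have e1 : C * E = E * C := hCE.eq
      rcases h with rfl | rfl | rfl | rfl <;> rcases h' with rfl | rfl | rfl | rfl <;>
        simp [← mul_assoc, hE2, hC2, e1, mul_assoc E C E, mul_assoc E C C]
    | inv y _ h =>
      rcases h with rfl | rfl | rfl | rfl
      · exact Or.inl inv_one
      · exact Or.inr (Or.inl (inv_eq_of_mul_eq_one_right hE2))
      · exact Or.inr (Or.inr (Or.inl (inv_eq_of_mul_eq_one_right hC2)))
      · refine Or.inr (Or.inr (Or.inr ?_))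
        rw [mul_inv_rev, inv_eq_of_mul_eq_one_right hC2, inv_eq_of_mul_eq_one_right hE2, hCE.eq]
  have hAcomm : IsMulCommutative A := ⟨⟨fun a b => Subtype.ext (by
    have e1 : C * E = E * C := hCE.eq
    change (a : G) * b = b * a
    rcases hAm a a.2 with h | h | h | h <;> rcases hAm b b.2 with h' | h' | h' | h' <;>
      simp [h, h', ← mul_assoc, hE2, hC2, e1, mul_assoc E C E, mul_assoc E C C])⟩⟩
  have hAsq : ∀ a : A, a ^ 2 = 1 := fun a => Subtype.ext (by
    have e1 : C * E = E * C := hCE.eq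
    rw [SubgroupClass.coe_pow, pow_two, Subgroup.coe_one]
    rcases hAm a a.2 with h | h | h | h <;>
      simp [h, ← mul_assoc, hE2, hC2, e1, mul_assoc E C E])
  have hEC : E ≠ C := fun e => small_facts.2.2.2.2.2.2.2 (X.inj e).symm
  have hE1 : E ≠ 1 := fun e => ev_ne (X.inj (e.trans (map_one X.Φ).symm))
  have hC1 : C ≠ 1 := fun e => small_facts.2.2.2.2.2.2.1 (X.inj (e.trans (map_one X.Φ).symm))
  have hEA : E ∈ A := subset_closure (by simp)
  have hCA : C ∈ A := subset_closure (by simp)
  have hcyc : ¬ IsCyclic A := by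
    intro hc
    exact hEC (Config.invol_unique hc hEA hCA hE2 hC2 hE1 hC1)
  have hAW : A ≤ normalizer (W : Set G) := by
    rw [hA, closure_le]; rintro u (rfl | rfl)
    · exact hWe
    · exact hWc
  have hA4 : ∃ k, Nat.card A = 2 ^ k := (IsPGroup.iff_card).1 (fun a => ⟨1, by rw [pow_one]; exact hAsq a⟩)
  have hcop : (Nat.card A).Coprime (Nat.card W) := by
    obtain ⟨k, hk⟩ := hA4
    rw [hk]; exact Nat.Coprime.pow_left k (Nat.coprime_two_left.2 hW)
  rw [eq_bot_iff, ← Cfsg.Agent.S0058.result A W hcyc hAW hcop]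
  refine iSup₂_le fun a ha => ?_
  obtain ⟨haA, ha1⟩ := ha
  intro y hy
  rw [mem_bot]
  have hyo : Odd (orderOf y) := hW.of_dvd_nat (Subgroup.orderOf_dvd_natCard _ hy.1)
  -- the centraliser of `ev` meets the odd subgroup trivially
  have hbase : ∀ u : G, Odd (orderOf u) → u * E = E * u → u * X.Φ sv = X.Φ sv * u → u = 1 := by
    intro u huo huE huS
    obtain ⟨σ, hσ, rfl⟩ := X.centralizer_ev u huE
    have h4 : X.Φ σ ^ 4 = 1 := by rw [← map_pow, L96_sv σ hσ (X.comm_of huS), map_one]
    rw [← orderOf_eq_one_iff]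
    exact Nat.eq_one_of_dvd_coprimes
      (Nat.Coprime.pow_left 2 (Nat.coprime_two_left.2 huo)) (orderOf_dvd_of_pow_eq_one h4) dvd_rfl
  set q := X.Φ qv with hq
  have hqS : q * X.Φ sv = X.Φ sv * q := X.map_comm small_facts.1
  have hconj : ∀ g : G, g * X.Φ sv = X.Φ sv * g → (g * y * g⁻¹) * E = E * (g * y * g⁻¹) → y = 1 := by
    intro g hg hgE
    refine conj_eq_one_iff.1 (hbase _ ?_ hgE ?_)
    · rw [← MulAut.conj_apply, ← MulEquiv.coe_toMonoidHom,
        orderOf_injective _ (MulAut.conj g).injective]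
      exact hyo
    · exact (((show Commute g (X.Φ sv) from hg).mul_left (hWs y hy.1)).mul_left
        (show Commute g (X.Φ sv) from hg).inv_left).eq
  have hya := mem_centralizer_singleton_iff.1 hy.2
  rcases hAm a haA with rfl | rfl | rfl | rfl
  · exact absurd rfl ha1
  · exact hbase y hyo hya (hWs y hy.1)
  · refine hconj q hqS ?_
    have hqC : q * C * q⁻¹ = E := by
      rw [hq, hEdef, hCdef, ← map_inv, ← map_mul, ← map_mul, qv_table.2.1]
    rw [← hqC, conj_mul, conj_mul, hya]
  · refine hconj q⁻¹ (show Commute q (X.Φ sv) from hqS).inv_left.eq ?_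
    have hqE : q * E * q⁻¹ = E * C := by
      rw [hq, hEdef, hCdef, ← map_inv, ← map_mul, ← map_mul, qv_table.1, map_mul]
      exact hCE.eq
    rw [inv_inv]
    calc q⁻¹ * y * q * E = q⁻¹ * (y * (q * E * q⁻¹)) * q := by group
      _ = q⁻¹ * ((q * E * q⁻¹) * y) * q := by rw [hqE, hya]
      _ = _ := by group

/-- The centraliser of the fixed-point-free involution. -/
theorem centralizer_sv {g : G} (hg : g * X.Φ sv = X.Φ sv * g) : g ∈ X.Φ.range := by
  classical
  set S := X.Φ sv with hSdef
  set Y := centralizer ({S} : Set G) with hYdef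
  have memY : ∀ y, y ∈ Y ↔ y * S = S * y := fun y => mem_centralizer_singleton_iff
  set sY : Y := ⟨S, (memY S).2 rfl⟩ with hsY
  have hord : orderOf sY = 2 := orderOf_eq_prime
    (Subtype.ext (by rw [pow_two]; exact X.map_sq sv_sq))
    (fun e => sv_ne (X.inj ((congrArg Subtype.val e : S = 1).trans (map_one X.Φ).symm)))
  have hnorm : (zpowers sY).Normal := ⟨fun a ha g => by
    obtain ⟨i, rfl⟩ := mem_zpowers_iff.1 ha
    have hc : Commute g sY := Subtype.ext ((memY g).1 g.2)
    rw [(hc.zpow_right i).eq, mul_inv_cancel_right]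
    exact zpow_mem (mem_zpowers sY) i⟩
  have hcardS : Nat.card (zpowers sY) = 2 := by rw [Nat.card_zpowers, hord]
  have memS : ∀ a : Y, a ∈ zpowers sY → (a : G) = 1 ∨ (a : G) = S := by
    intro a ha
    obtain ⟨i, rfl⟩ := (Submonoid.mem_powers_iff _ _).1 ((mem_powers_iff_mem_zpowers).2 ha)
    rw [pow_eq_pow_mod i (show sY ^ 2 = 1 from hord ▸ pow_orderOf_eq_one sY)]
    rcases Nat.mod_two_eq_zero_or_one i with e | e <;> rw [e]
    · left; rw [pow_zero]; rfl
    · right; rw [pow_one]
  set Q := Y ⧸ zpowers sY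
  set pY : Y := ⟨X.Φ pv, (memY _).2 (X.map_comm small_facts.2.2.2.2.1)⟩ with hpY
  set pb : Q := QuotientGroup.mk pY with hpb
  have hp3 : pY ^ 3 = 1 := Subtype.ext (by
    rw [SubgroupClass.coe_pow]; change X.Φ pv ^ 3 = 1; rw [← map_pow, pv_table.2.1, map_one])
  have hpb3 : orderOf pb = 3 := by
    have : Fact (Nat.Prime 3) := ⟨Nat.prime_three⟩
    refine orderOf_eq_prime (by rw [hpb, ← QuotientGroup.mk_pow, hp3, QuotientGroup.mk_one]) fun e => ?_
    rcases memS _ ((QuotientGroup.eq_one_iff pY).1 e) with h | h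
    · exact pv_table.2.2 (X.inj (h.trans (map_one X.Φ).symm))
    · have : pv = sv := X.inj h
      exact absurd this (by decide +kernel)
  set P3 := zpowers pb with hP3def
  have hP3 : Nat.card P3 = 3 := by rw [Nat.card_zpowers, hpb3]
  have hself : centralizer (P3 : Set Q) = P3 := by
    refine le_antisymm (fun x => ?_) ?_
    · induction x using QuotientGroup.induction_on with
      | H y => ?_
      intro hx
      have h0 := (mem_centralizer_iff.1 hx) pb (mem_zpowers pb)
      rw [hpb, ← QuotientGroup.mk_mul, ← QuotientGroup.mk_mul, QuotientGroup.eq] at h0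
      have hyp : (y : G) * X.Φ pv = X.Φ pv * y := by
        rcases memS _ h0 with e | e
        · exact (inv_mul_eq_one.1 e).symm
        · exfalso
          have e' : (y : G) * X.Φ pv = X.Φ pv * y * S := by
            rw [← e]; change _ = X.Φ pv * y * ((X.Φ pv * (y : G))⁻¹ * ((y : G) * X.Φ pv)); group
          have h3 : ((y : G) * X.Φ pv * (y : G)⁻¹) ^ 3 = 1 := by
            rw [conj_pow, ← map_pow, pv_table.2.1, map_one, mul_one, mul_inv_cancel]
          rw [e', mul_assoc (X.Φ pv), (memY _).1 y.2, mul_assoc (X.Φ pv), mul_inv_cancel_right,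
            hSdef, ← map_mul, ← map_pow] at h3
          exact small_facts.2.2.2.2.2.1 (X.inj (h3.trans (map_one X.Φ).symm))
      obtain ⟨e, a, b, hab⟩ := X.czw ((X.Φ pk)⁻¹ * y * X.Φ pk) (by
        rw [← X.map_u12]
        rw [← conjugators.2, map_mul X.Φ (pk * (u1 * u2)), map_mul X.Φ pk, map_inv] at hyp
        calc (X.Φ pk)⁻¹ * y * X.Φ pk * X.Φ (u1 * u2)
            = (X.Φ pk)⁻¹ * ((y : G) * (X.Φ pk * X.Φ (u1 * u2) * (X.Φ pk)⁻¹)) * X.Φ pk := by group
          _ = (X.Φ pk)⁻¹ * ((X.Φ pk * X.Φ (u1 * u2) * (X.Φ pk)⁻¹) * y) * X.Φ pk := by rw [hyp]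
          _ = _ := by group)
      have hyk : (y : G) = X.Φ (pk * (sw ^ e.1 * (u1 ^ a.1 * u2 ^ b.1)) * pk⁻¹) := by
        rw [map_mul, map_mul X.Φ pk, map_inv, ← hab]; group
      have hys := (memY _).1 y.2
      rw [hyk] at hys
      have hmemP : ∀ v : Y, ∀ τ : alternatingGroup (Fin 8), (v : G) = X.Φ τ → τ ∈ [1, pv, pv * pv] →
          (QuotientGroup.mk v : Q) ∈ P3 := by
        intro v τ hv hτ
        simp only [List.mem_cons, List.not_mem_nil, or_false] at hτ
        rcases hτ with rfl | rfl | rfl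
        · rw [show v = 1 from Subtype.ext (by rw [hv, map_one]; rfl)]; exact one_mem _
        · rw [show v = pY from Subtype.ext hv]; exact mem_zpowers _
        · rw [show v = pY * pY from Subtype.ext (by rw [hv, map_mul]; rfl)]
          exact mul_mem (mem_zpowers _) (mem_zpowers _)
      rcases pk_cent e a b (X.comm_of hys) with h | h
      · exact hmemP y _ hyk h
      · have h2 := hmemP (y * sY) _ (by rw [Subgroup.coe_mul, hyk, map_mul X.Φ _ sv]) h
        rwa [QuotientGroup.mk_mul, (QuotientGroup.eq_one_iff sY).2 (mem_zpowers sY), mul_one] at h2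
    · intro x hx
      rw [mem_centralizer_iff]
      intro u hu
      obtain ⟨i, rfl⟩ := mem_zpowers_iff.1 hx
      obtain ⟨j, rfl⟩ := mem_zpowers_iff.1 hu
      exact ((Commute.refl pb).zpow_zpow j i).eq
  -- orders
  have hYcard : Nat.card Y = Nat.card Q * 2 := by
    rw [Subgroup.card_eq_card_quotient_mul_card_subgroup (zpowers sY), hcardS]
  have hle : (centralizer ({sv} : Set (alternatingGroup (Fin 8)))).map X.Φ ≤ Y := by
    rintro _ ⟨σ, hσ, rfl⟩
    exact (memY _).2 (X.map_comm (mem_centralizer_singleton_iff.1 hσ))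
  have hMcard : Nat.card ((centralizer ({sv} : Set (alternatingGroup (Fin 8)))).map X.Φ) = 192 := by
    rw [← Nat.card_congr (equivMapOfInjective _ X.Φ X.inj).toEquiv, card_cent_sv]
  have h192 : 192 ∣ Nat.card Q * 2 := hYcard ▸ hMcard ▸ Subgroup.card_dvd_of_le hle
  have hn128 : ¬ 128 ∣ Nat.card Q * 2 := fun h =>
    X.not128 ((hYcard ▸ h).trans (Subgroup.card_subgroup_dvd_card Y))
  rcases Cfsg.Agent.S3331.result P3 hP3 hself with
    ⟨N, hN, hNnil, hN3, hNq⟩ | ⟨N, hN, -, hN2, ⟨eq5⟩⟩ | e7
  · -- nilpotent kernel: it is a two-group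
    have hq : Nat.card (Q ⧸ N) = 3 ∨ Nat.card (Q ⧸ N) = 6 := by
      rcases hNq with h | e
      · exact Or.inl h
      · right
        obtain ⟨e⟩ := e
        rw [Nat.card_congr e.toEquiv, Nat.card_perm, Nat.card_eq_fintype_card, Fintype.card_fin]
        rfl
    have hNpow : ∀ q : ℕ, q.Prime → q ∣ Nat.card N → q = 2 := by
      intro q hqp hqd
      by_contra hq2
      have : Fact q.Prime := ⟨hqp⟩
      obtain ⟨R⟩ : Nonempty (Sylow q N) := inferInstance
      have hRn : (R : Subgroup N).Normal := Sylow.normal_of_normalizerCondition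
        Group.normalizerCondition_of_isNilpotent R
      have hRc : (R : Subgroup N).Characteristic := Sylow.characteristic_of_normal R hRn
      set R' := (R : Subgroup N).map N.subtype with hR'
      have hR'n : R'.Normal := ConjAct.normal_of_characteristic_of_normal
      obtain ⟨k, hk⟩ := R.2.exists_card_eq
      have hR'card : Nat.card R' = q ^ k := by
        rw [hR', ← Nat.card_congr (equivMapOfInjective _ N.subtype Subtype.val_injective).toEquiv, hk]
      obtain ⟨W0, hW0odd, hW0, hlift⟩ := exists_odd_lift (zpowers sY) hcardS R'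
        (by rw [hR'card]; exact (hqp.odd_of_ne_two hq2).pow)
      have hnrm : ∀ a : Y, ∀ y ∈ W0, a * y * a⁻¹ ∈ W0 := by
        intro a y hy
        obtain ⟨h1, h2⟩ := (hW0 y).1 hy
        refine (hW0 _).2 ⟨?_, ?_⟩
        · rw [QuotientGroup.mk_mul, QuotientGroup.mk_mul, QuotientGroup.mk_inv]
          exact hR'n.conj_mem _ h1 _
        · rw [conj_pow, h2, mul_one, mul_inv_cancel]
      have hmemN : ∀ a ∈ Y, a ∈ normalizer ((W0.map Y.subtype : Subgroup G) : Set G) := by
        intro a ha
        rw [mem_normalizer_iff]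
        intro u
        constructor
        · rintro ⟨y, hy, rfl⟩
          exact ⟨⟨a, ha⟩ * y * ⟨a, ha⟩⁻¹, hnrm _ y hy, rfl⟩
        · rintro ⟨y, hy, he⟩
          refine ⟨⟨a, ha⟩⁻¹ * y * ⟨a, ha⟩, by simpa using hnrm (⟨a, ha⟩⁻¹) y hy, ?_⟩
          change a⁻¹ * (y : G) * a = u
          rw [show (y : G) = a * u * a⁻¹ from he]; group
      have hW0bot := X.odd_trivial (W0.map Y.subtype)
        (by rw [← Nat.card_congr (equivMapOfInjective _ Y.subtype Subtype.val_injective).toEquiv]; exact hW0odd)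
        (fun y hy => (memY y).1 (Subgroup.map_subtype_le _ hy))
        (hmemN _ ((memY _).2 (X.map_comm small_facts.2.2.2.1)))
        (hmemN _ ((memY _).2 (X.map_comm small_facts.2.2.1)))
      have hR'bot : R' = ⊥ := by
        rw [eq_bot_iff]
        intro x
        induction x using QuotientGroup.induction_on with
        | H y => ?_
        intro hx
        obtain ⟨e, he, hye⟩ := hlift y hx
        have h1 : y * e = 1 := by
          have hh : ((y * e : Y) : G) ∈ W0.map Y.subtype := ⟨_, hye, rfl⟩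
          rw [hW0bot, mem_bot] at hh
          exact Subtype.ext hh
        rw [mem_bot, QuotientGroup.eq_one_iff, mul_eq_one_iff_eq_inv.1 h1]
        exact inv_mem he
      have hdk : q ∣ q ^ k := by
        rw [← hk]
        have := R.dvd_card_of_dvd_card hqd
        exact this
      rw [← hR'card, hR'bot, Subgroup.card_bot] at hdk
      exact hqp.one_lt.ne' (Nat.dvd_one.1 hdk)
    obtain ⟨k, hk⟩ : ∃ k, Nat.card N = 2 ^ k := by
      exact ⟨_, Nat.eq_prime_pow_of_unique_prime_dvd Nat.card_pos.ne' fun {q} h1 h2 => hNpow q h1 h2⟩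
    have hQcard : Nat.card Q = Nat.card (Q ⧸ N) * 2 ^ k := by
      rw [Subgroup.card_eq_card_quotient_mul_card_subgroup N, hk]
    have hY192 : Nat.card Y = 192 := by
      rw [hYcard, hQcard]
      rw [hQcard] at h192 hn128
      rcases hq with h | h <;> rw [h] at h192 hn128 ⊢
      · have hk5 : k = 5 := by
          have h1 : k ≤ 5 := by
            by_contra hgt
            refine hn128 ?_
            obtain ⟨j, rfl⟩ := Nat.exists_eq_add_of_le (by omega : 6 ≤ k)
            exact ⟨3 * 2 ^ j, by ring⟩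
          interval_cases k <;> first | rfl | norm_num at h192
        subst hk5; norm_num
      · have hk4 : k = 4 := by
          have h1 : k ≤ 4 := by
            by_contra hgt
            refine hn128 ?_
            obtain ⟨j, rfl⟩ := Nat.exists_eq_add_of_le (by omega : 5 ≤ k)
            exact ⟨3 * 2 ^ j, by ring⟩
          interval_cases k <;> first | rfl | norm_num at h192
        subst hk4; norm_num
    have heq := Subgroup.eq_of_le_of_card_ge hle (by rw [hY192, hMcard])
    have hgY := (memY g).2 hg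
    rw [← heq] at hgY
    exact Subgroup.map_le_range _ _ hgY
  · exfalso
    have hQ : Nat.card Q = 60 * Nat.card N := by
      rw [Subgroup.card_eq_card_quotient_mul_card_subgroup N, Nat.card_congr eq5.toEquiv,
        nat_card_alternatingGroup, Nat.card_eq_fintype_card, Fintype.card_fin]
      rfl
    obtain ⟨k, hk⟩ : ∃ k, Nat.card N = 2 ^ k := (IsPGroup.iff_card).1
      (fun a => ⟨1, by rw [pow_one]; exact Subtype.ext (by rw [SubgroupClass.coe_pow]; exact hN2 a a.2)⟩)
    rw [hQ, hk] at h192 hn128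
    have hk3 : k = 3 := by
      have h1 : k ≤ 3 := by
        by_contra hgt
        refine hn128 ?_
        obtain ⟨j, rfl⟩ := Nat.exists_eq_add_of_le (by omega : 4 ≤ k)
        exact ⟨15 * 2 ^ j, by ring⟩
      interval_cases k <;> first | rfl | norm_num at h192
    subst hk3
    -- the element of order three fixes only the identity
    have : Fintype N := Fintype.ofFinite N
    let φ : Equiv.Perm N :=
      { toFun := fun a => ⟨pb * a * pb⁻¹, hN.conj_mem _ a.2 _⟩
        invFun := fun a => ⟨pb⁻¹ * a * pb, by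
          have := hN.conj_mem _ a.2 pb⁻¹
          rwa [inv_inv] at this⟩
        left_inv := fun a => Subtype.ext (by group)
        right_inv := fun a => Subtype.ext (by group) }
    have hpb3' : pb * pb * pb = 1 := by
      have := pow_orderOf_eq_one pb
      rwa [hpb3, pow_succ, pow_two] at this
    have hφ3 : φ ^ 3 = 1 := by
      refine Equiv.ext fun a => Subtype.ext ?_
      rw [pow_succ, pow_two]
      change pb * (pb * (pb * a * pb⁻¹) * pb⁻¹) * pb⁻¹ = a
      calc pb * (pb * (pb * a * pb⁻¹) * pb⁻¹) * pb⁻¹ = (pb * pb * pb) * a * (pb * pb * pb)⁻¹ := by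
            simp only [mul_inv_rev, mul_assoc]
        _ = a := by rw [hpb3', one_mul, inv_one, mul_one]
    have hfix : ∀ a : N, φ a = a → a = 1 := by
      intro a ha
      have hc : (a : Q) ∈ centralizer (P3 : Set Q) := by
        rw [mem_centralizer_iff]
        intro u hu
        obtain ⟨i, rfl⟩ := mem_zpowers_iff.1 hu
        exact ((show Commute pb a from mul_inv_eq_iff_eq_mul.1 (congrArg Subtype.val ha)).zpow_left i).eq
      rw [hself] at hc
      refine Subtype.ext ?_
      have h1 := Subgroup.orderOf_dvd_natCard _ hc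
      rw [hP3] at h1
      have h2 : orderOf (a : Q) ∣ 2 := orderOf_dvd_of_pow_eq_one (hN2 a a.2)
      exact orderOf_eq_one_iff.1 (Nat.eq_one_of_dvd_coprimes (by norm_num : Nat.Coprime 3 2) h1 h2)
    have hsupp : φ.support = Finset.univ.erase 1 := by
      ext a
      rw [Perm.mem_support, Finset.mem_erase]
      refine ⟨fun h => ⟨fun e => h ?_, Finset.mem_univ a⟩, fun h e => h.1 (hfix a e)⟩
      subst e
      refine Subtype.ext ?_
      change pb * ((1 : N) : Q) * pb⁻¹ = ((1 : N) : Q)
      rw [Subgroup.coe_one, mul_one, mul_inv_cancel]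
    have hcardsupp : φ.support.card = 7 := by
      rw [hsupp, Finset.card_erase_of_mem (Finset.mem_univ _), Finset.card_univ,
        ← Nat.card_eq_fintype_card, hk]
      rfl
    have hφ1 : φ ≠ 1 := fun e => by rw [e, Perm.support_one, Finset.card_empty] at hcardsupp; omega
    have : Fact (Nat.Prime 3) := ⟨Nat.prime_three⟩
    obtain ⟨n, hn⟩ := Perm.cycleType_prime_order (σ := φ)
      (by rw [orderOf_eq_prime hφ3 hφ1]; exact Nat.prime_three)
    have hs := φ.sum_cycleType
    rw [hn, Multiset.sum_replicate, smul_eq_mul, orderOf_eq_prime hφ3 hφ1, hcardsupp] at hs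
    omega
  · exfalso
    obtain ⟨e7⟩ := e7
    have : Fact (Nat.Prime 7) := ⟨by norm_num⟩
    have hc := CfsgLib.SL2.card_PSL_odd (F := ZMod 7) (by rw [ZMod.card]; decide)
    rw [ZMod.card] at hc
    have hc' : 2 * Nat.card Q = 336 := by
      rw [Nat.card_congr e7.toEquiv]
      exact hc.trans (by norm_num)
    rw [mul_comm, hc'] at h192
    norm_num at h192

/-- The centralisers of all involutions of the embedded group lie in it. -/
theorem invol_centralizer (σ : alternatingGroup (Fin 8)) (hσ : σ * σ = 1) (hσ1 : σ ≠ 1) (g : G)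
    (hg : g * X.Φ σ = X.Φ σ * g) : g ∈ X.Φ.range := by
  obtain ⟨k, hk⟩ := invol_class σ hσ hσ1
  have hg' : (X.Φ k * g * (X.Φ k)⁻¹) * X.Φ (k * σ * k⁻¹) = X.Φ (k * σ * k⁻¹) * (X.Φ k * g * (X.Φ k)⁻¹) := by
    rw [map_mul, map_mul, map_inv, conj_mul, conj_mul, hg]
  have hm : X.Φ k * g * (X.Φ k)⁻¹ ∈ X.Φ.range := by
    rcases hk with e | e <;> rw [e] at hg'
    · exact X.mem_range_of_ev hg'
    · exact X.centralizer_sv hg'
  have hkm : X.Φ k ∈ X.Φ.range := ⟨k, rfl⟩
  have := mul_mem (mul_mem (inv_mem hkm) hm) hkm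
  rwa [show (X.Φ k)⁻¹ * (X.Φ k * g * (X.Φ k)⁻¹) * X.Φ k = g by group] at this

theorem range_eq_top : X.Φ.range = ⊤ := by
  rw [eq_top_iff]
  intro g _
  set E := X.Φ ev with hEdef
  set S := X.Φ sv with hSdef
  set s' := g * S * g⁻¹ with hs'
  have hE2 : E * E = 1 := X.map_sq ev_sq
  have hS2 : s' * s' = 1 := by rw [hs', conj_mul, X.map_sq sv_sq, mul_one, mul_inv_cancel]
  have hEi : E⁻¹ = E := inv_eq_of_mul_eq_one_right hE2
  have hs'i : s'⁻¹ = s' := inv_eq_of_mul_eq_one_right hS2
  set u := E * s' with hu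
  have huE : E * u * E = u⁻¹ := by
    rw [hu, mul_inv_rev, hs'i, hEi]
    calc E * (E * s') * E = (E * E) * (s' * E) := by group
      _ = s' * E := by rw [hE2, one_mul]
  have hpow : ∀ m : ℕ, E * u ^ m * E = (u ^ m)⁻¹ := by
    intro m
    have := conj_pow (a := E) (b := u) (i := m)
    rw [hEi, huE, inv_pow] at this
    exact this.symm
  rcases Nat.even_or_odd (orderOf u) with ⟨r, hr⟩ | ho
  · -- a central involution of the dihedral group
    have hr0 : 0 < r := by have := orderOf_pos u; omega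
    set i := u ^ r with hi
    have hi2 : i * i = 1 := by rw [hi, ← pow_add, ← hr, pow_orderOf_eq_one]
    have hi1 : i ≠ 1 := fun e => by
      have := orderOf_dvd_of_pow_eq_one e
      have := Nat.le_of_dvd hr0 this
      omega
    have hiE : i * E = E * i := by
      have h := hpow r
      rw [← hi, inv_eq_of_mul_eq_one_right hi2] at h
      calc i * E = (E * i * E) * E := by rw [h]
        _ = E * i := by rw [mul_assoc, hE2, mul_one]
    have his : i * s' = s' * i := by
      have hus : s' = E * u := by rw [hu, ← mul_assoc, hE2, one_mul]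
      have hiu : i * u = u * i := by rw [hi, ← pow_succ, pow_succ']
      rw [hus, ← mul_assoc, hiE, mul_assoc, hiu, ← mul_assoc]
    obtain ⟨σ, hσ⟩ := X.mem_range_of_ev hiE
    have hσ2 : σ * σ = 1 := X.inj (by rw [map_mul, hσ, hi2, map_one])
    have hσ1 : σ ≠ 1 := fun e => hi1 (by rw [← hσ, e, map_one])
    obtain ⟨τ, hτ⟩ := X.invol_centralizer σ hσ2 hσ1 s' (by rw [hσ]; exact his.symm)
    have hτ2 : τ * τ = 1 := X.inj (by rw [map_mul, hτ, hS2, map_one])
    have hτ1 : τ ≠ 1 := fun e => by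
      rw [e, map_one] at hτ
      exact sv_ne (X.inj ((conj_eq_one_iff.1 hτ.symm).trans (map_one X.Φ).symm))
    obtain ⟨k, hk | hk⟩ := invol_class τ hτ2 hτ1
    · exfalso
      apply X.sv_not_conj_ev (X.Φ k * g)⁻¹
      rw [← hk, map_mul, map_mul, map_inv, hτ, hs']; group
      rfl
    · have hkg : X.Φ k * g ∈ X.Φ.range := X.centralizer_sv (by
        rw [← mul_inv_eq_iff_eq_mul]
        calc X.Φ k * g * S * (X.Φ k * g)⁻¹ = X.Φ k * s' * (X.Φ k)⁻¹ := by rw [hs']; group
          _ = X.Φ sv := by rw [← hτ, ← map_inv, ← map_mul, ← map_mul, hk])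
      have := mul_mem (inv_mem (MonoidHom.mem_range.2 ⟨k, rfl⟩ : X.Φ k ∈ X.Φ.range)) hkg
      rwa [inv_mul_cancel_left] at this
  · exfalso
    obtain ⟨k, hk⟩ := pow_half_eq ho
    set v := u ^ k with hv
    have hvv : v * v = u := by rw [hv, ← pow_two, ← pow_mul, mul_comm, pow_mul, ← hk]
    apply X.sv_not_conj_ev (g⁻¹ * v⁻¹)
    have hvE : v⁻¹ * E = E * v := by
      rw [← hpow k, ← hv]; simp only [mul_assoc, hE2, mul_one]
    have hconj : v⁻¹ * E * v = s' := by
      rw [hvE, mul_assoc, hvv, hu, ← mul_assoc, hE2, one_mul]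
    calc g⁻¹ * v⁻¹ * X.Φ ev * (g⁻¹ * v⁻¹)⁻¹ = g⁻¹ * (v⁻¹ * E * v) * g := by rw [hEdef]; group
      _ = X.Φ sv := by rw [hconj, hs', hSdef]; group

end Embedded

end CfsgLib.AltEight29
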